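import Cfsg.Agent.H101.PQ.MHecke
import Cfsg.Agent.H635.SB.Sq
import Cfsg.Agent.H657.M13.Facts

/-!
# S4884, the Monster, `q = 13` (helper316)

* `nb_thirteen` : a subgroup of type `13 × 13` of `C(a)`, `a` of order 13 with `C(a) = ⟨a⟩ × L₃(3)`, is its own
  centralizer modulo 13-elements (helper657's facts);
* `row_thirteen` : the character of degree `196883 = 11` modulo 13.
-/

set_option autoImplicit false
set_option maxRecDepth 100000

namespace Cfsg.Agent.H316.SB.Monster

open Subgroup Cfsg
open Cfsg.Agent.H657.M13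
open Cfsg.Agent.H994.M23.Norm (Sp)
open Cfsg.Agent.H709.PB Cfsg.Agent.H635.SB Cfsg.Agent.H101.PQ.MHecke Cfsg.Agent.MonsterX.InstData
open Cfsg.Agent.H317.PQ Cfsg.Agent.Blocks.Basic Cfsg.Agent.H635.PQ Cfsg.Agent.H766.PQ
open Cfsg.Agent.LThreeB.Row (TA)
open Cfsg.Lie Cfsg.Agent.Bimonster Cfsg.Agent.Bimonster.Tits Cfsg.Agent.BabyU
open Cfsg.Agent.MonsterX.KSide Cfsg.Agent.MonsterX.KLift Cfsg.Agent.MonsterX.KModel
open Cfsg.Agent.MonsterX.Model Cfsg.Agent.MonsterX.MainPack Cfsg.Agent.MonsterX.MainSimple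
open Cfsg.Agent.MonsterX.MainBasic Cfsg.Agent.MonsterU.Assembly Cfsg.Agent.MonsterN.Lit Cfsg.Agent.MonsterN
open Cfsg.Agent.MonsterX Cfsg.Agent.MonsterP

universe u

/-- the group `⟨a, y⟩`, `y ∈ L₃(3)` of order 13 -/
theorem nb_of_fct {G : Type} [Group G] [Finite G] {a x t : G} {L R : Subgroup G} (F : Fct a x t L R) :
    NB 13 1 G := by
  have hp : Fact (Nat.Prime 13) := ⟨by norm_num⟩
  have hfin : Finite L := inferInstance
  obtain ⟨e⟩ := F.iso
  have hLc : Nat.card L = 5616 := by
    have h1 := F.sp.card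
    rw [F.ca] at h1
    omega
  obtain ⟨⟨y, hyL⟩, hy⟩ := exists_prime_orderOf_dvd_card' (G := L) 13 (by rw [hLc]; norm_num)
  have hyo : orderOf y = 13 := by rw [← hy, Subgroup.orderOf_mk]
  have hya : y * a = a * y := (F.sp.comm hyL).symm.eq
  have hyn : y ∉ zpowers a := by
    intro h
    have h1 := Subgroup.disjoint_def.1 F.sp.disj h hyL
    rw [h1, orderOf_one] at hyo
    norm_num at hyo
  -- the subgroup
  have hU : IsPGroup 13 (closure ({a, y} : Set G)) := by
    have hc : ∀ u ∈ ({a, y} : Set G), ∀ v ∈ ({a, y} : Set G), u * v = v * u := by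
      rintro u (rfl | rfl) v (rfl | rfl)
      · rfl
      · exact hya.symm
      · exact hya
      · rfl
    have hcomm : ∀ u ∈ closure ({a, y} : Set G), ∀ v ∈ closure ({a, y} : Set G), u * v = v * u := by
      intro u hu v hv
      have h1 := (Subgroup.isMulCommutative_closure hc).is_comm.comm ⟨u, hu⟩ ⟨v, hv⟩
      exact congrArg Subtype.val h1
    intro u
    refine ⟨1, Subtype.ext ?_⟩
    rw [pow_one]
    show (u : G) ^ 13 = 1
    have h1 : ∀ v ∈ closure ({a, y} : Set G), v ^ 13 = 1 := by
      intro v hv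
      induction hv using Subgroup.closure_induction with
      | mem v h =>
        rcases h with rfl | rfl
        · rw [← F.sp.ord, pow_orderOf_eq_one]
        · rw [← hyo, pow_orderOf_eq_one]
      | one => exact one_pow _
      | mul v w hv hw h2 h3 =>
        have h4 : Commute v w := hcomm v hv w hw
        rw [h4.mul_pow, h2, h3, one_mul]
      | inv v hv h2 => rw [inv_pow, h2, inv_one]
    exact h1 u u.2
  refine nb_of_centric hU ?_
  -- a prime divisor
  rw [IsPGroup.iff_card]
  have hn : ∀ r : ℕ, r.Prime → r ∣ Nat.card (centralizer ((closure ({a, y} : Set G) : Subgroup G) : Set G)) → r = 13 := by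
    intro r hr hd
    by_contra hne
    have hrF : Fact r.Prime := ⟨hr⟩
    obtain ⟨⟨n, hnC⟩, hno⟩ := exists_prime_orderOf_dvd_card' r hd
    rw [Subgroup.orderOf_mk] at hno
    have hna : n * a = a * n := ((mem_centralizer_iff.1 hnC) a (subset_closure (by simp))).symm
    have hny : n * y = y * n := ((mem_centralizer_iff.1 hnC) y (subset_closure (by simp))).symm
    have h1 : n = 1 := cent_two F.sp e hya hyo hyn hna hny (by
      rw [hno]
      intro h
      exact hne ((Nat.prime_dvd_prime_iff_eq (by norm_num) hr).1 h).symm)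
    rw [h1, orderOf_one] at hno
    exact hr.one_lt.ne hno
  exact ⟨_, (Nat.eq_prime_pow_of_unique_prime_dvd Nat.card_pos.ne' fun {r} hr hd => hn r hr hd)⟩

/-- **The characters of degree prime to 13 of the Monster are in the principal 13-block.** -/
theorem nb_thirteen : NB 13 1 ↥M.G := by
  have hfin : Finite ↥M.G := finite_MG
  obtain ⟨a, x, L, R, F⟩ := facts (IsConj.refl _ : TA (tG KDone.mGroup KDone.mRep))
  exact nb_of_fct F

/-- **The Monster, `q = 13`.** -/
theorem row_thirteen : RowQ 13 ↥M.G := by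
  have hfin : Finite ↥M.G := finite_MG
  obtain ⟨χ, hd, h2⟩ := mem_2_196883
  exact RowQ.of_mem hd h2 (mem_of_nb (by norm_num) nb_thirteen hd (by norm_num)) (by norm_num) (by norm_num) (by norm_num)

end Cfsg.Agent.H316.SB.Monster
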